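import Groth.Prelude.Def_AssocGrMod
import Mathlib.RingTheory.AdicCompletion.Basic
import Mathlib.RingTheory.Noetherian.Basic
import Mathlib.RingTheory.Finiteness.Basic

/-!
# Successive approximation along a filtration of a complete ring
-/

set_option autoImplicit false

universe u v

namespace Groth.Agent.AdicGrLib

variable {A : Type u} [CommRing A] {I : Ideal A}

theorem sub_mem_of_smodEq {a b : A} {k : ℕ} : a ≡ b [SMOD (I ^ k • ⊤ : Submodule A A)] ↔ a - b ∈ I ^ k := by
  rw [SModEq.sub_mem, Ideal.smul_eq_mul, Ideal.mul_top]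

/-- Successive approximation. -/
theorem exists_repr [IsPrecomplete I A] {M : Type v} [AddCommGroup M] [Module A M] (N : ℕ → Submodule A M)
    (hanti : Antitone N) (hsmul : ∀ k n, I ^ k • N n ≤ N (k + n)) (hsep : ∀ z, (∀ n, z ∈ N n) → z = 0)
    {ι : Type*} [Fintype ι] (d : ι → ℕ) (x : ι → M) (hx : ∀ i, x i ∈ N (d i)) (P : Submodule A M) (hxP : ∀ i, x i ∈ P)
    (h : ∀ n, ∀ y ∈ P, y ∈ N n → ∃ a : ι → A, (∀ i, a i ∈ I ^ (n - d i)) ∧ y - ∑ i, a i • x i ∈ N (n + 1))
    (n : ℕ) (y : M) (hy : y ∈ P) (hyn : y ∈ N n) :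
    ∃ a : ι → A, (∀ i, a i ∈ I ^ (n - d i)) ∧ y = ∑ i, a i • x i := by
  classical
  let St : ℕ → (ι → A) → Prop := fun k s => (∀ i, s i ∈ I ^ (n - d i)) ∧ y - ∑ i, s i • x i ∈ N (n + k)
  have step : ∀ k (s : {s // St k s}), ∃ t : {s // St (k + 1) s}, ∀ i, t.1 i - s.1 i ∈ I ^ (n + k - d i) := by
    rintro k ⟨s, hs, hr⟩
    obtain ⟨a, ha, har⟩ := h (n + k) _ (P.sub_mem hy (P.sum_mem fun i _ => P.smul_mem _ (hxP i))) hr
    refine ⟨⟨fun i => s i + a i, fun i => (I ^ _).add_mem (hs i) (Ideal.pow_le_pow_right (by omega) (ha i)), ?_⟩,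
      fun i => by simpa using ha i⟩
    have e : y - ∑ i, (s i + a i) • x i = y - ∑ i, s i • x i - ∑ i, a i • x i := by
      simp only [add_smul, Finset.sum_add_distrib]; abel
    rw [e, ← add_assoc]
    exact har
  choose next hnext using step
  let seq : ∀ k, {s // St k s} := fun k => Nat.rec ⟨fun _ => 0, fun _ => zero_mem _, by simpa using hyn⟩ next k
  have hseq : ∀ k i, (seq (k + 1)).1 i - (seq k).1 i ∈ I ^ (n + k - d i) := fun k i => hnext k (seq k) i
  have hlim : ∀ i, ∃ L : A, ∀ m, L - (seq (m + d i)).1 i ∈ I ^ m := by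
    intro i
    obtain ⟨L, hL⟩ := IsPrecomplete.prec (I := I) (inferInstance) (f := fun m => (seq (m + d i)).1 i) (by
      intro m m' hmm
      rw [sub_mem_of_smodEq]
      induction m', hmm using Nat.le_induction with
      | base => simp
      | succ j hj ih =>
        have := hseq (j + d i) i
        rw [add_right_comm] at this
        have := (I ^ m).sub_mem ih (Ideal.pow_le_pow_right (by omega) this)
        convert this using 1
        ring)
    exact ⟨L, fun m => by rw [← neg_sub, Ideal.neg_mem_iff]; exact sub_mem_of_smodEq.1 (hL m)⟩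
  choose L hL using hlim
  refine ⟨L, fun i => ?_, sub_eq_zero.1 (hsep _ fun k => ?_)⟩
  · have := (I ^ (n - d i)).add_mem (hL i (n - d i)) ((seq (n - d i + d i)).2.1 i)
    rwa [sub_add_cancel] at this
  · have e : y - ∑ i, L i • x i = (y - ∑ i, (seq k).1 i • x i) + ∑ i, ((seq k).1 i - L i) • x i := by
      simp only [sub_smul, Finset.sum_sub_distrib]; abel
    rw [e]
    refine add_mem (hanti (Nat.le_add_left k n) (seq k).2.2) (sum_mem fun i _ => ?_)
    by_cases hk : k ≤ d i
    · exact Submodule.smul_mem _ _ (hanti hk (hx i))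
    · have h1 := hL i (k - d i)
      rw [Nat.sub_add_cancel (by omega), ← neg_sub, Ideal.neg_mem_iff] at h1
      exact hanti (show k ≤ k - d i + d i by omega) (hsmul _ _ (Submodule.smul_mem_smul h1 (hx i)))

section GrMod

open AssocGr

variable {M : Type u} [AddCommGroup M] [Module A M] (F : I.Filtration M)

/-- Initial forms of elements of `M'`. -/
def initForms (M' : Submodule A M) : Set (GrMod F) :=
  {z | ∃ (n : ℕ) (y : M) (hy : y ∈ F.N n), y ∈ M' ∧ z = mkGM F (monomM F n ⟨y, hy⟩)}

theorem span_initForms_top : Submodule.span (GrRing (FiltBl.IdealFiltration.adic I)) (initForms F ⊤) = ⊤ := by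
  refine top_le_iff.1 fun z _ => ?_
  obtain ⟨y, rfl⟩ := mkGM_surjective F z
  rw [← sum_termM F y, map_sum]
  exact Submodule.sum_mem _ fun n _ => Submodule.subset_span ⟨n, _, ReesM.coeff_mem F y n, trivial, rfl⟩

theorem closure_le [IsPrecomplete I A] (hsep : ⨅ n, F.N n = ⊥) (M' : Submodule A M)
    (hfg : (Submodule.span (GrRing (FiltBl.IdealFiltration.adic I)) (initForms F M')).FG) :
    ∃ t : Finset M, (↑t ⊆ (M' : Set M)) ∧ ∀ y, y ∈ F.N 0 → (∀ n, y ∈ M' ⊔ F.N n) → y ∈ Submodule.span A (t : Set M) := by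
  classical
  obtain ⟨T, hT, hTs⟩ : ∃ T : Finset (GrMod F), ↑T ⊆ initForms F M' ∧
      initForms F M' ⊆ Submodule.span (GrRing (FiltBl.IdealFiltration.adic I)) (T : Set (GrMod F)) := by
    obtain ⟨s, hs⟩ := hfg
    have : ∀ z ∈ s, ∃ T : Finset (GrMod F), ↑T ⊆ initForms F M' ∧
        z ∈ Submodule.span (GrRing (FiltBl.IdealFiltration.adic I)) (T : Set (GrMod F)) := fun z hz =>
      Submodule.mem_span_finite_of_mem_span (hs ▸ Submodule.subset_span hz)
    choose! T hT hz using this
    refine ⟨s.biUnion T, by simpa using hT, fun z hzS => ?_⟩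
    have h1 : z ∈ Submodule.span (GrRing (FiltBl.IdealFiltration.adic I)) (s : Set (GrMod F)) := hs ▸ Submodule.subset_span hzS
    refine Submodule.span_le.2 ?_ h1
    exact fun w hw => Submodule.span_mono (Finset.coe_subset.2 (Finset.subset_biUnion_of_mem T hw)) (hz w hw)
  choose d x hxN hxM hxz using fun z : T => hT z.2
  refine ⟨Finset.univ.image x, fun v hv => ?_, fun y hy0 hy => ?_⟩
  · obtain ⟨i, -, rfl⟩ := Finset.mem_image.1 hv
    exact hxM i
  let P : Submodule A M := ⨅ n, M' ⊔ F.N n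
  have hP : ∀ v, v ∈ P ↔ ∀ n, v ∈ M' ⊔ F.N n := fun v => Submodule.mem_iInf _
  have hstep : ∀ n, ∀ v ∈ P, v ∈ F.N n → ∃ a : T → A, (∀ i, a i ∈ I ^ (n - d i)) ∧
      v - ∑ i, a i • x i ∈ F.N (n + 1) := by
    intro n v hv hvn
    obtain ⟨m, hm, z, hz, rfl⟩ := Submodule.mem_sup.1 ((hP v).1 hv (n + 1))
    have hmn : m ∈ F.N n := by
      have := (F.N n).sub_mem hvn (F.antitone (Nat.le_succ n) hz)
      rwa [add_sub_cancel_right] at this
    have h1 := hTs ⟨n, m, hmn, hm, rfl⟩
    rw [SetLike.mem_coe, ← Set.image_id (T : Set (GrMod F)), ← Finset.coe_image, Finset.image_id] at h1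
    obtain ⟨c, hc⟩ := Submodule.mem_span_range_iff_exists_fun (v := fun z : T => (z : GrMod F)) _ |>.1
      (by rwa [show Set.range (fun z : T => (z : GrMod F)) = (T : Set (GrMod F)) by ext; simp])
    choose f hf using fun i => mkG_surjective (FiltBl.IdealFiltration.adic I) (c i)
    have h2 : mkGM F (monomM F n ⟨m, hmn⟩ - ∑ i, f i • monomM F (d i) ⟨x i, hxN i⟩) = 0 := by
      rw [map_sub, map_sum, ← hc, sub_eq_zero]
      refine Finset.sum_congr rfl fun i _ => ?_
      rw [← mkG_smul_mkGM, hf, ← hxz]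
    rw [mkGM_eq_zero_iff] at h2
    have h3 := h2 n
    rw [← ReesM.coeffHom_apply, map_sub, map_sum] at h3
    simp only [ReesM.coeffHom_apply, ReesM.coeff_monomM, if_pos, ReesM.coeff_smul] at h3
    refine ⟨fun i => if d i ≤ n then (f i : Polynomial A).coeff (n - d i) else 0, fun i => ?_, ?_⟩
    · dsimp only
      split_ifs
      · exact (f i).2 (n - d i)
      · exact zero_mem _
    · have e : ∀ i, (∑ p ∈ Finset.antidiagonal n, (f i : Polynomial A).coeff p.1 • (if d i = p.2 then x i else 0)) =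
          (if d i ≤ n then (f i : Polynomial A).coeff (n - d i) else 0) • x i := fun i => by
        simp only [smul_ite, smul_zero]
        rw [← Finset.sum_filter]
        split_ifs with hd
        · rw [Finset.sum_eq_single_of_mem (n - d i, d i) (by simp [Finset.mem_antidiagonal, Nat.sub_add_cancel hd]) ?_]
          rintro ⟨p, q⟩ hpq hne
          rw [Finset.mem_filter, Finset.mem_antidiagonal] at hpq
          obtain ⟨hpq, hq⟩ := hpq
          simp only at hpq hq
          exact absurd (show (p, q) = (n - d i, d i) from Prod.ext (by simp only; omega) hq.symm) hne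
        · rw [zero_smul, Finset.sum_eq_zero]
          intro p hp
          rw [Finset.mem_filter, Finset.mem_antidiagonal] at hp
          omega
      rw [Finset.sum_congr rfl fun i _ => e i] at h3
      rw [add_sub_right_comm]
      exact (F.N _).add_mem h3 hz
  obtain ⟨a, -, rfl⟩ := exists_repr F.N F.antitone F.pow_smul_le
    (fun z hz => by rwa [← Submodule.mem_bot A, ← hsep, Submodule.mem_iInf]) d x hxN P
    (fun i => (hP _).2 fun n => Submodule.mem_sup_left (hxM i)) hstep 0 y ((hP y).2 hy) hy0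
  exact Submodule.sum_mem _ fun i _ => Submodule.smul_mem _ _ (Submodule.subset_span (by simp))

end GrMod

end Groth.Agent.AdicGrLib
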